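import Mathlib
import Cfsg.Agent.Lib.Fus.GN.Small
import Cfsg.Agent.Lib.Fus.CharTransfer

/-!
# A second functor for transfer at odd primes

For a `p`-group `S` equal to `C_S(Z(J(S)))` a characteristic subgroup is chosen which, together with the
centre, has one member normal in every rank one group over `S` without quadratic elements.  The functor
takes at any group the subgroup chosen for its `C(Z(J))`.
-/

set_option autoImplicit false
set_option linter.style.haveILetI false
set_option linter.unusedSectionVars false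

open scoped Classical commutatorElement

namespace Cfsg.Agent.Fus.ThreeTransfer

open Subgroup Cfsg.Agent.Invol Cfsg.Agent.Fus.GN

universe u

variable {p : ℕ} [hp : Fact p.Prime]

/-- The property asked of the chosen subgroup. -/
structure Good (p : ℕ) [Fact p.Prime] (S : Type u) [Group S] (K : Subgroup S) : Prop where
  ne : K ≠ ⊥
  char : K.Characteristic
  normal : ∀ (G : Type u) [Group G] [Finite G] (P : Sylow p G) (e : S ≃* ↥(P : Subgroup G)),
    tilde S = ⊤ →
    centralizer (Cfsg.pCore p G : Set G) ≤ Cfsg.pCore p G →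
    (∃! M : Subgroup G, IsCoatom M ∧ (P : Subgroup G) ≤ M) →
    (∃ (K : Subgroup G) (_ : K.Normal) (F : Type) (_ : Field F) (_ : Fintype F) (n : ℕ),
      Fintype.card F = p ^ n ∧ Nonempty (G ⧸ K ≃* Matrix.ProjectiveSpecialLinearGroup (Fin 2) F)) →
    NoQuad P →
    ((center S).map (emb (P : Subgroup G) e)).Normal ∨ (K.map (emb (P : Subgroup G) e)).Normal

theorem exists_good {S : Type u} [Group S] [Finite S] [Nontrivial S] (hS : IsPGroup p S) :
    ∃ K : Subgroup S, Good p S K := by
  have hcbot := GN.center_ne_bot hS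
  by_cases hT : tilde S = ⊤
  swap
  · exact ⟨⊤, top_ne_bot, inferInstance, fun G _ _ P e h => absurd h hT⟩
  have hJ : ⁅zj S, (⊤ : Subgroup S)⁆ = ⊥ :=
    commutator_eq_bot_iff_le_centralizer.mpr (le_centralizer_iff.mp hT.ge)
  by_cases hΦ : Cfsg.frattiniOfMinimalCLJoin p S = ⊥
  swap
  · have h := pair_frattini hS hJ hΦ
    exact ⟨_, hΦ, h.char₂, fun G _ _ P e _ h1 h2 h3 _ => h.normal G P e h1 h2 h3⟩
  -- the large abelian subgroups are the minimal centrally large ones, one of them elementary
  obtain ⟨Q, hQm, hQc⟩ := PushCLF.sSup_attained (p := p) (P := S)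
  have hle : (frattini ↥Q).map Q.subtype ≤ ⊥ := hΦ ▸ le_iSup_of_le ⟨Q, hQm, hQc⟩ le_rfl
  have hfr : frattini ↥Q = ⊥ := (map_eq_bot_iff_of_injective _ Q.subtype_injective).mp (le_bot_iff.mp hle)
  have hQab : IsMulCommutative ↥Q := ⟨⟨fun a b => commutatorElement_eq_one_iff_mul_comm.mp (mem_bot.mp
    (hfr ▸ Grp.pGroup_commutator_le_frattini (hS.to_subgroup Q)
      (commutator_mem_commutator (mem_top a) (mem_top b))))⟩⟩
  have hQexp : ∀ a ∈ Q, a ^ p = 1 := fun a ha => mem_bot.mp
    (hle ⟨(⟨a, ha⟩ : ↥Q) ^ p, Grp.pGroup_pow_mem_frattini (hS.to_subgroup Q) _, rfl⟩)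
  have hiff := CL.minimal_abelian_iff hQm hQab
  have hQD : ∀ R : Subgroup S, Cfsg.IsMinimalCentrallyLarge R → ⁅R, R⁆ = ⊥ := fun R hR => by
    haveI := ((hiff R).mp hR).1
    exact commutator_eq_bot_iff_le_centralizer.mpr R.le_centralizer
  have hel : Cfsg.IsElementaryAbelian p (center S) := ⟨inferInstance, fun z hz => hQexp z (by
    rw [← CL.maxAbelian_centralizer ((hiff Q).mp hQm)]
    exact center_le_centralizer _ hz)⟩
  obtain ⟨hs, -, -, -⟩ := std_of_regular hJ hel hQD
  obtain ⟨S₂, hc, hle₂, -, hn⟩ := class_pair (q := True) (S₁ := center S) hs (excl_of_hard trivial) le_rfl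
  exact ⟨S₂, ne_bot_of_le_ne_bot hcbot hle₂, hc, fun G _ _ P e _ h1 h2 h3 hq => hn G P e h1 h2 h3 fun _ => hq⟩

/-- The subgroup chosen for a group. -/
noncomputable def pick (p : ℕ) [Fact p.Prime] (S : Type u) [Group S] : Subgroup S :=
  if h : ∃ K, Good p S K then h.choose else ⊤

theorem pick_good {S : Type u} [Group S] [Finite S] [Nontrivial S] (hS : IsPGroup p S) : Good p S (pick p S) := by
  have h := exists_good (p := p) hS
  rw [pick, dif_pos h]
  exact h.choose_spec

theorem pick_char {S : Type u} [Group S] : (pick p S).Characteristic := by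
  unfold pick
  split_ifs with h
  · exact h.choose_spec.char
  · infer_instance

/-- Groups up to isomorphism. -/
structure GrpBox : Type (u + 1) where
  carrier : Type u
  [grp : Group carrier]

attribute [instance] GrpBox.grp

/-- Isomorphism of groups. -/
def isoRel : Setoid GrpBox.{u} where
  r A B := Nonempty (A.carrier ≃* B.carrier)
  iseqv := ⟨fun _ => ⟨MulEquiv.refl _⟩, fun ⟨e⟩ => ⟨e.symm⟩, fun ⟨e⟩ ⟨f⟩ => ⟨e.trans f⟩⟩

/-- The chosen member of the isomorphism class of a group. -/
noncomputable def repr (Q : Type u) [Group Q] : GrpBox.{u} := (Quotient.mk isoRel ⟨Q⟩).out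

/-- The chosen isomorphism with the member of the class. -/
noncomputable def reprEquiv (Q : Type u) [Group Q] : (repr Q).carrier ≃* Q :=
  (Quotient.mk_out (s := isoRel) ⟨Q⟩ : Nonempty _).some

theorem repr_eq {Q R : Type u} [Group Q] [Group R] (e : Q ≃* R) : repr Q = repr R :=
  congrArg Quotient.out (Quotient.sound (s := isoRel) (⟨e⟩ : Nonempty (Q ≃* R)))

/-- The choice, moved along any isomorphism. -/
noncomputable def canon (p : ℕ) [Fact p.Prime] (Q : Type u) [Group Q] : Subgroup Q :=
  (pick p (repr Q).carrier).map (reprEquiv Q).toMonoidHom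

theorem canon_eq {Q : Type u} [Group Q] (A : GrpBox.{u}) (hA : A = repr Q) (f : A.carrier ≃* Q) :
    (pick p A.carrier).map f.toMonoidHom = canon p Q := by
  subst hA
  have h := Subgroup.characteristic_iff_map_eq.mp (pick_char (p := p) (S := (repr Q).carrier)) (f.trans (reprEquiv Q).symm)
  calc (pick p (repr Q).carrier).map f.toMonoidHom
      = ((pick p (repr Q).carrier).map (f.trans (reprEquiv Q).symm).toMonoidHom).map (reprEquiv Q).toMonoidHom := by
        rw [Subgroup.map_map]
        congr 1
        ext x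
        simp
    _ = _ := by rw [h]; rfl

theorem canon_map {Q R : Type u} [Group Q] [Group R] (e : Q ≃* R) :
    (canon p Q).map e.toMonoidHom = canon p R := by
  rw [← canon_eq (repr Q) (repr_eq e) ((reprEquiv Q).trans e), canon, Subgroup.map_map]
  rfl

theorem canon_good {Q : Type u} [Group Q] [Finite Q] [Nontrivial Q] (hQ : IsPGroup p Q) :
    Good p Q (canon p Q) := by
  haveI : Finite (repr Q).carrier := Finite.of_equiv Q (reprEquiv Q).symm.toEquiv
  haveI : Nontrivial (repr Q).carrier := (reprEquiv Q).toEquiv.nontrivial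
  have h := pick_good (p := p) (hQ.of_equiv (reprEquiv Q).symm)
  refine ⟨fun h0 => h.ne ((map_eq_bot_iff_of_injective _ (reprEquiv Q).injective).mp h0),
    characteristic_iff_map_eq.mpr fun φ => canon_map φ, fun G _ _ P e hT h1 h2 h3 hq => ?_⟩
  have hzj : tilde (repr Q).carrier = ⊤ := eq_top_iff.mpr fun x _ => mem_centralizer_iff.mpr fun z hz => by
    have hz' : reprEquiv Q z ∈ zj Q := by
      have hh : (zj (repr Q).carrier).map (reprEquiv Q).toMonoidHom = zj Q := by
        rw [zj, zj, ← cz_top, ← cz_top, Subgroup.map_inf _ _ _ (reprEquiv Q).injective, Invol.map_thompsonSubgroupA,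
          ← cz_map _ (reprEquiv Q).injective, map_top_of_surjective _ (reprEquiv Q).surjective,
          Invol.map_thompsonSubgroupA]
      exact hh ▸ mem_map_of_mem _ hz
    exact (reprEquiv Q).injective (by
      rw [map_mul, map_mul]
      exact mem_centralizer_iff.mp (hT.ge (mem_top (reprEquiv Q x))) _ hz')
  have e2 : ∀ X : Subgroup (repr Q).carrier, X.map (emb (P : Subgroup G) ((reprEquiv Q).trans e)) =
      (X.map (reprEquiv Q).toMonoidHom).map (emb (P : Subgroup G) e) := fun X => by
    rw [Subgroup.map_map]; rfl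
  have := h.normal G P ((reprEquiv Q).trans e) hzj h1 h2 h3 hq
  rw [e2, e2, CharTransfer.map_center] at this
  exact this

/-- The functor. -/
noncomputable def second (p : ℕ) [Fact p.Prime] (Q : Type u) [Group Q] : Subgroup Q :=
  (canon p ↥(tilde Q)).map (tilde Q).subtype

theorem second_isFunctor : Cfsg.IsCharPFunctor.{u} p (fun (Q : Type u) [Group Q] => second p Q) := by
  refine ⟨fun Q _ _ hQ hn h0 => ?_, fun Q R _ _ _ _ φ => ?_⟩
  · haveI := hn
    haveI : Nontrivial ↥(tilde Q) := (nontrivial_iff_ne_bot _).mpr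
      (ne_bot_of_le_ne_bot (GN.center_ne_bot hQ) (center_le_centralizer _))
    exact (canon_good (p := p) (hQ.to_subgroup (tilde Q))).ne
      ((map_eq_bot_iff_of_injective _ (tilde Q).subtype_injective).mp h0)
  · haveI : Finite R := Finite.of_equiv Q φ.toEquiv
    have hJ := Invol.map_thompsonSubgroupA φ
    have ht : (tilde Q).map φ.toMonoidHom = tilde R := by
      rw [tilde, tilde, ← cz_top, ← cz_top, ← cz_map _ φ.injective, map_top_of_surjective _ φ.surjective]
      congr 1
      rw [zj, zj, ← cz_top, ← cz_top, Subgroup.map_inf _ _ _ φ.injective, hJ, ← cz_map _ φ.injective,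
        map_top_of_surjective _ φ.surjective, hJ]
    let ψ : ↥(tilde Q) ≃* ↥(tilde R) := (φ.subgroupMap (tilde Q)).trans (MulEquiv.subgroupCongr ht)
    show (second p Q).map φ.toMonoidHom = second p R
    rw [second, second, ← canon_map ψ, Subgroup.map_map, Subgroup.map_map]
    rfl

theorem second_induced_top {Q : Type u} [Group Q] (h : tilde Q = ⊤) : second p Q = canon p Q := by
  rw [second, ← canon_map ((MulEquiv.subgroupCongr h).trans Subgroup.topEquiv)]
  rfl

end Cfsg.Agent.Fus.ThreeTransfer
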