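import Mathlib
import Cfsg.Agent.Lib.Fus.ThreeTransfer.Pick
import Cfsg.Agent.Lib.Fus.CharTransferStep

/-!
# The two functors at a minimal counterexample
-/

set_option autoImplicit false
set_option linter.style.haveILetI false
set_option linter.unusedSectionVars false

open scoped Classical commutatorElement

namespace Cfsg.Agent.Fus.ThreeTransfer

open Subgroup Cfsg.Agent.Invol Cfsg.Agent.Fus.CharTransfer

universe u

variable {p : ℕ} [hp : Fact p.Prime]

/-- The centre and the second functor. -/
def fam (p : ℕ) [Fact p.Prime] : Set (∀ (Q : Type u) [Group Q], Subgroup Q) :=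
  {(fun (Q : Type u) [Group Q] => center Q), (fun (Q : Type u) [Group Q] => second p Q)}

theorem fam_nonempty : (fam.{u} p).Nonempty := ⟨_, Or.inl rfl⟩

theorem fam_functor : ∀ W ∈ fam.{u} p, Cfsg.IsCharPFunctor.{u} p W := by
  rintro W (rfl | rfl)
  · exact center_mem_allFun
  · exact second_isFunctor

variable {X : Type u} [Group X] [Finite X]

theorem induced_center (H : Subgroup X) :
    Cfsg.inducedFunctor (fun (Q : Type u) [Group Q] => center Q) H = H ⊓ centralizer (H : Set X) := by
  have h := GN.emb_center H (MulEquiv.refl ↥H)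
  exact h

/-- A central fixed line makes the whole centre of a Sylow subgroup central. -/
theorem center_central (S : Sylow p X) {A : Subgroup X} [hA : A.Normal] (hAS : A ≤ (S : Subgroup X))
    (hab : ∀ a ∈ A, ∀ b ∈ A, a * b = b * a) (hZA : (S : Subgroup X) ⊓ centralizer (S : Set X) ≤ A)
    (hΩ : PushUp.Zs S ≤ center X) : (S : Subgroup X) ⊓ centralizer (S : Set X) ≤ center X := by
  intro z hz
  obtain ⟨k, hk⟩ : ∃ k, z ^ p ^ k = 1 := by
    obtain ⟨k, hk⟩ := S.isPGroup' ⟨z, hz.1⟩
    exact ⟨k, congrArg Subtype.val hk⟩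
  induction k generalizing z with
  | zero => rw [pow_zero, pow_one] at hk; exact hk ▸ one_mem _
  | succ k ih =>
    have hzp : z ^ p ∈ center X := ih (pow_mem hz p) (by rw [← pow_mul, ← pow_succ']; exact hk)
    letI : CommGroup ↥A := { (inferInstance : Group ↥A) with mul_comm := fun a b => Subtype.ext (hab a a.2 b b.2) }
    have hconj : ∀ g : X, g * z * g⁻¹ ∈ A := fun g => hA.conj_mem z (hZA hz) g
    let f : X → ↥A := fun g => ⟨g * z * g⁻¹, hconj g⟩
    have hf : ∀ g s, s ∈ (S : Subgroup X) → f (g * s) = f g := fun g s hs => Subtype.ext (by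
      show g * s * z * (g * s)⁻¹ = g * z * g⁻¹
      rw [mul_assoc g s z, mem_centralizer_iff.mp hz.2 s hs]; group)
    let f' : X ⧸ (S : Subgroup X) → ↥A := fun c => f c.out
    have hf' : ∀ g : X, f' g = f g := fun g => by
      have h1 : g⁻¹ * (g : X ⧸ (S : Subgroup X)).out ∈ (S : Subgroup X) :=
        QuotientGroup.eq.mp (QuotientGroup.out_eq' _).symm
      show f (g : X ⧸ (S : Subgroup X)).out = f g
      rw [show (g : X ⧸ (S : Subgroup X)).out = g * (g⁻¹ * (g : X ⧸ (S : Subgroup X)).out) by group, hf _ _ h1]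
    haveI := Fintype.ofFinite (X ⧸ (S : Subgroup X))
    obtain ⟨e, he⟩ : ∃ e : ↥A, e = ∏ c, f' c := ⟨_, rfl⟩
    have hec : (e : X) ∈ center X := Subgroup.mem_center_iff.mpr fun g => by
      let cg : ↥A →* ↥A :=
        { toFun := fun a => ⟨g * a * g⁻¹, hA.conj_mem a a.2 g⟩
          map_one' := Subtype.ext (by simp)
          map_mul' := fun a b => Subtype.ext (by simp [mul_assoc]) }
      have h1 : ∀ c, cg (f' c) = f' (g • c) := fun c => by
        induction c using QuotientGroup.induction_on with
        | _ b =>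
          rw [MulAction.Quotient.smul_mk, smul_eq_mul, hf', hf']
          exact Subtype.ext (by simp [cg, f, mul_assoc])
      have h2 : cg e = e := by
        rw [he, map_prod]
        simp only [h1]
        exact Equiv.prod_comp (MulAction.toPerm g) f'
      have h3 : g * (e : X) * g⁻¹ = e := congrArg Subtype.val h2
      calc g * (e : X) = g * (e : X) * g⁻¹ * g := by group
        _ = (e : X) * g := by rw [h3]
    obtain ⟨m, hm⟩ : ∃ m, m = (S : Subgroup X).index := ⟨_, rfl⟩
    have hzS : ∀ s ∈ (S : Subgroup X), s * z = z * s := fun s hs => mem_centralizer_iff.mp hz.2 s hs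
    have hd : z ^ m * (e : X)⁻¹ ∈ PushUp.Zs S := by
      refine PushUp.mem_Zs.mpr ⟨mul_mem (pow_mem hz.1 m) (inv_mem (hAS e.2)),
        mem_centralizer_iff.mpr fun s hs => ?_, ?_⟩
      · exact ((Commute.pow_right (hzS s hs) m).mul_right
          (Commute.inv_right (Subgroup.mem_center_iff.mp hec s))).eq
      · have he' : e ^ p = ⟨z ^ p, pow_mem (hZA hz) p⟩ ^ m := by
          rw [he, ← Finset.prod_pow, Finset.prod_congr rfl (fun c _ => ?_), Finset.prod_const, Finset.card_univ,
            hm, index_eq_card, Nat.card_eq_fintype_card]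
          refine Subtype.ext ?_
          show (c.out * z * c.out⁻¹) ^ p = z ^ p
          rw [conj_pow, Subgroup.mem_center_iff.mp hzp, mul_inv_cancel_right]
        have he'' : (e : X) ^ p = (z ^ p) ^ m := congrArg Subtype.val he'
        have hcomm : Commute (z ^ m) (e : X)⁻¹ := Commute.inv_right (Subgroup.mem_center_iff.mp hec (z ^ m))
        rw [hcomm.mul_pow, inv_pow, he'', ← pow_mul, ← pow_mul, mul_comm m p, mul_inv_cancel]
    have hzm : z ^ m ∈ center X := by
      have := mul_mem (hΩ hd) hec
      rwa [inv_mul_cancel_right] at this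
    have hco : Nat.gcd p m = 1 := (hp.out.coprime_iff_not_dvd.mpr (hm ▸ S.not_dvd_index) :)
    obtain ⟨a, b, hab'⟩ : ∃ a b : ℤ, (p : ℤ) * a + (m : ℤ) * b = 1 :=
      ⟨Nat.gcdA p m, Nat.gcdB p m, by rw [← Nat.gcd_eq_gcd_ab, hco]; rfl⟩
    rw [← zpow_one z, ← hab', zpow_add, zpow_mul, zpow_mul, zpow_natCast, zpow_natCast]
    exact mul_mem (zpow_mem hzp a) (zpow_mem hzm b)

end Cfsg.Agent.Fus.ThreeTransfer
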