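import Mathlib
import Cfsg.Agent.Lib.Fus.ThreeTransfer.Setup

/-!
# The centre and the second functor control transfer at odd primes
-/

set_option autoImplicit false
set_option linter.style.haveILetI false
set_option linter.unusedSectionVars false

open scoped Classical commutatorElement

namespace Cfsg.Agent.Fus.ThreeTransfer

open Subgroup Cfsg.Agent.Invol Cfsg.Agent.Fus.CharTransfer

universe u

variable {p : ℕ} [hp : Fact p.Prime] {X : Type u} [Group X] [Finite X]

/-- `C_S(Z(J(S)))`. -/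
abbrev tilX (S : Sylow p X) : Subgroup X :=
  (S : Subgroup X) ⊓ centralizer (Cfsg.centerThompsonAOf (S : Subgroup X) : Set X)

theorem zj_tilX (S : Sylow p X) :
    Cfsg.centerThompsonAOf (tilX S) = Cfsg.centerThompsonAOf (S : Subgroup X) := by
  have hAB : ∀ A, Fus.IsMaxAb (S : Subgroup X) A → A ≤ tilX S := fun A hA a ha =>
    ⟨hA.1 ha, mem_centralizer_iff.mpr fun z hz => (mem_centralizer_iff.mp hz.2 a (hA.le_thompsonA ha)).symm⟩
  have hJ : Cfsg.thompsonSubgroupAOf (tilX S) = Cfsg.thompsonSubgroupAOf (S : Subgroup X) := by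
    obtain ⟨A1, hA1⟩ := RealFree.exists_isMaxAb (S : Subgroup X)
    refine le_antisymm (Fus.thompsonA_le_of fun A hA => ?_) (Fus.thompsonA_le_of fun A hA => ?_)
    · exact Fus.IsMaxAb.le_thompsonA ⟨hA.1.trans inf_le_left, hA.2.1, fun B' h1 h2 =>
        (hA1.2.2 B' h1 h2).trans (hA.2.2 A1 (hAB A1 hA1) hA1.2.1)⟩
    · exact Fus.IsMaxAb.le_thompsonA ⟨hAB A hA, hA.2.1, fun B' h1 h2 => hA.2.2 B' (h1.trans inf_le_left) h2⟩
  unfold Cfsg.centerThompsonAOf
  rw [hJ]

theorem tilde_tilX (S : Sylow p X) : GN.tilde ↥(tilX S) = ⊤ := by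
  refine map_injective (tilX S).subtype_injective ?_
  have h := GN.emb_tilde (tilX S) (MulEquiv.refl ↥(tilX S))
  rw [zj_tilX] at h
  rw [← MonoidHom.range_eq_map, range_subtype]
  refine Eq.trans h (inf_eq_left.mpr inf_le_right)

/-- The second functor takes the same value at `S` and at `C_S(Z(J(S)))`. -/
theorem second_tilX (S : Sylow p X) :
    Cfsg.inducedFunctor (fun (Q : Type u) [Group Q] => second p Q) (tilX S) =
      Cfsg.inducedFunctor (fun (Q : Type u) [Group Q] => second p Q) (S : Subgroup X) := by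
  have h := GN.emb_tilde (S : Subgroup X) (MulEquiv.refl ↥(S : Subgroup X))
  let ψ : ↥(GN.tilde ↥(S : Subgroup X)) ≃* ↥(tilX S) :=
    ((GN.tilde ↥(S : Subgroup X)).equivMapOfInjective (S : Subgroup X).subtype (S : Subgroup X).subtype_injective).trans
      (MulEquiv.subgroupCongr h)
  show (second p ↥(tilX S)).map (tilX S).subtype = (second p ↥(S : Subgroup X)).map (S : Subgroup X).subtype
  rw [second_induced_top (tilde_tilX S), ← canon_map ψ, second, Subgroup.map_map, Subgroup.map_map]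
  rfl

theorem center_le_tilX (S : Sylow p X) : (S : Subgroup X) ⊓ centralizer (S : Set X) ≤ tilX S := fun z hz =>
  ⟨hz.1, mem_centralizer_iff.mpr fun c hc => mem_centralizer_iff.mp hz.2 c (RealFree.centerThompsonA_le _ hc)⟩

section

variable {S : Sylow p X} {M : Subgroup X} (hM : M ≠ ⊤)
  (hover : ∀ H : Subgroup X, (S : Subgroup X) ≤ H → H ≠ ⊤ → H ≤ M)
  (hZ : ¬ ((S : Subgroup X) ⊓ centralizer (S : Set X)).Normal)
  (hW : ¬ (Cfsg.inducedFunctor (fun (Q : Type u) [Group Q] => second p Q) (tilX S)).Normal)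
include hM hover hZ hW

/-- No normal subgroup lies between the centre and the centre of `C_S(Z(J(S)))`. -/
theorem no_normal {N : Subgroup X} [hN : N.Normal] (hZN : (S : Subgroup X) ⊓ centralizer (S : Set X) ≤ N)
    (hB : (S : Subgroup X) ⊓ centralizer (N : Set X) = tilX S) : False := by
  obtain ⟨C, hC⟩ : ∃ C, C = centralizer (N : Set X) := ⟨_, rfl⟩
  haveI hCn : C.Normal := hC ▸ PushUnique.centralizer_normal' N
  have hCS : C ⊔ (S : Subgroup X) ≠ ⊤ := fun htop =>
    hZ (PushUnique.normal_of_le_center fun z hz => PushUnique.mem_center_of htop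
      (fun c hc => (mem_centralizer_iff.mp (hC ▸ hc) z (hZN hz)).symm)
      fun s hs => mem_centralizer_iff.mp hz.2 s hs)
  have hCM : C ≤ M := le_sup_left.trans (hover _ le_sup_right hCS)
  rw [← hC] at hB
  have hsyl : Grp.IsSylowIn p (tilX S) C := by
    rw [← hB]
    exact ⟨inf_le_right, S.isPGroup'.to_le inf_le_left, by
      rw [Subgroup.inf_relIndex_right]; exact Grp.sylow_inf_normal_relIndex S C⟩
  have hSN : (S : Subgroup X) ≤ normalizer (tilX S : Set X) := fun s hs => mem_normalizer_fintype fun b hb =>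
    PushTilde.tilde_conj_mem (fun a ha => mul_mem (mul_mem hs ha) (inv_mem hs)) hb
  by_cases hNt : normalizer (tilX S : Set X) = ⊤
  · refine hW (normalizer_eq_top_iff.mp (eq_top_iff.mpr ?_))
    exact hNt.ge.trans (normalizer_le_normalizer_inducedFunctor second_isFunctor (S.isPGroup'.to_le inf_le_left))
  · refine hM (eq_top_iff.mpr fun g _ => ?_)
    obtain ⟨c, hc, n, hn, rfl⟩ := exists_mul_mem_normalizer hsyl g
    exact mul_mem (hCM hc) (hover _ hSN hNt hn)

theorem center_tilX_not_normal :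
    ¬ (Cfsg.inducedFunctor (fun (Q : Type u) [Group Q] => center Q) (tilX S)).Normal := by
  rw [induced_center]
  intro hn
  haveI := hn
  refine no_normal hM hover hZ hW (N := tilX S ⊓ centralizer (tilX S : Set X))
    (fun z hz => ⟨center_le_tilX S hz, mem_centralizer_iff.mpr fun b hb => mem_centralizer_iff.mp hz.2 b hb.1⟩) ?_
  refine le_antisymm (fun x hx => ⟨hx.1, mem_centralizer_iff.mpr fun c hc => ?_⟩)
    fun b hb => ⟨hb.1, mem_centralizer_iff.mpr fun c hc => (mem_centralizer_iff.mp hc.2 b hb).symm⟩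
  have hJ : Cfsg.thompsonSubgroupAOf (S : Subgroup X) ≤ tilX S := Fus.thompsonA_le_of fun A hA a ha =>
    ⟨hA.1 ha, mem_centralizer_iff.mpr fun z hz => (mem_centralizer_iff.mp hz.2 a (hA.le_thompsonA ha)).symm⟩
  exact mem_centralizer_iff.mp hx.2 c ⟨hJ hc.1, mem_centralizer_iff.mpr fun b hb =>
    (mem_centralizer_iff.mp hb.2 c hc).symm⟩

theorem thompson_not_normal : ¬ (Cfsg.thompsonSubgroupAOf (S : Subgroup X)).Normal := by
  intro hn
  haveI := hn
  haveI := PushUnique.centralizer_normal' (Cfsg.thompsonSubgroupAOf (S : Subgroup X))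
  haveI hZJn : (Cfsg.centerThompsonAOf (S : Subgroup X)).Normal := by
    unfold Cfsg.centerThompsonAOf; infer_instance
  refine no_normal hM hover hZ hW (N := Cfsg.centerThompsonAOf (S : Subgroup X)) ?_ rfl
  have h := map_mono (f := (S : Subgroup X).subtype)
    (show center ↥(S : Subgroup X) ≤ GN.zj ↥(S : Subgroup X) from
      le_inf ((center_le_centralizer _).trans CL.centralizer_thompson_le) (center_le_centralizer _))
  exact (induced_center (S : Subgroup X)).ge.trans (h.trans (GN.emb_zj (S : Subgroup X) (MulEquiv.refl _)).le)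

theorem fixed_line_not_normal (hcore : centralizer (Cfsg.pCore p X : Set X) ≤ Cfsg.pCore p X) :
    ¬ (PushUp.Zs S).Normal := by
  intro hn
  haveI := hn
  obtain ⟨C, hC⟩ : ∃ C, C = centralizer (PushUp.Zs S : Set X) := ⟨_, rfl⟩
  haveI hCn : C.Normal := hC ▸ PushUnique.centralizer_normal' _
  have hSC : (S : Subgroup X) ≤ C := fun s hs => hC ▸ mem_centralizer_iff.mpr fun z hz =>
    (mem_centralizer_iff.mp hz.2.1 s hs).symm
  haveI := Grp.pCore_isNormal (p := p) (G := X)
  haveI := PushUnique.centralizer_normal' (Cfsg.pCore p X)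
  obtain ⟨A, hA⟩ : ∃ A, A = Cfsg.pCore p X ⊓ centralizer (Cfsg.pCore p X : Set X) := ⟨_, rfl⟩
  haveI : A.Normal := hA ▸ inferInstance
  by_cases hCt : C = ⊤
  · refine hZ (PushUnique.normal_of_le_center (center_central S (A := A)
      (hA ▸ inf_le_left.trans (Grp.pCore_le_sylow S)) (fun a ha b hb => ?_) (fun z hz => hA ▸ ?_) fun z hz => ?_))
    · exact (mem_centralizer_iff.mp (hA ▸ ha : a ∈ Cfsg.pCore p X ⊓ _).2 b (hA ▸ hb : b ∈ Cfsg.pCore p X ⊓ _).1).symm
    · have h1 : z ∈ centralizer (Cfsg.pCore p X : Set X) := mem_centralizer_iff.mpr fun t ht =>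
        mem_centralizer_iff.mp hz.2 t (Grp.pCore_le_sylow S ht)
      exact ⟨hcore h1, h1⟩
    · refine mem_center_iff.mpr fun g => (mem_centralizer_iff.mp (hC ▸ hCt.ge (mem_top g)) z hz).symm
  · refine hM (eq_top_iff.mpr fun g _ => ?_)
    have hsyl : Grp.IsSylowIn p (S : Subgroup X) C := ⟨hSC, S.isPGroup', fun hd =>
      S.not_dvd_index (hd.trans (Subgroup.relIndex_dvd_index_of_le hSC))⟩
    have hNne : normalizer ((S : Subgroup X) : Set X) ≠ ⊤ := fun h => hW (normalizer_eq_top_iff.mp (eq_top_iff.mpr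
      (second_tilX S ▸ h.ge.trans (normalizer_le_normalizer_inducedFunctor second_isFunctor S.isPGroup'))))
    obtain ⟨c, hc, n, hn', rfl⟩ := exists_mul_mem_normalizer hsyl g
    exact mul_mem (hover C hSC hCt hc) (hover _ le_normalizer hNne hn')

end

theorem transferCtrl_step (hodd : p ≠ 2)
    (hsub : ∀ H : Subgroup X, H ≠ ⊤ → TransferCtrl p (fam.{u} p) H)
    (hquot : ∀ (R : Subgroup X) [R.Normal], R ≠ ⊥ → TransferCtrl p (fam.{u} p) (X ⧸ R))
    (S : Sylow p X) (hG : ¬ TransferCtrl p (fam.{u} p) X) : False := by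
  obtain ⟨-, hcore, hMne, hover'⟩ := transfer_minimal fam_functor fam_nonempty hsub hquot hG S
  obtain ⟨M, hM⟩ : ∃ M, M = normalizer ((Foc (ind (fam.{u} p) X) (S : Subgroup X) ⊓ Cfsg.pCore p X : Subgroup X) : Set X) :=
    ⟨_, rfl⟩
  have hover : ∀ H : Subgroup X, (S : Subgroup X) ≤ H → H ≠ ⊤ → H ≤ M := fun H h1 h2 => hM ▸ (hover' H h1 h2).1
  have hMne' : M ≠ ⊤ := hM ▸ hMne
  have hnormal : ∀ W ∈ fam.{u} p, ¬ (Cfsg.inducedFunctor W (S : Subgroup X)).Normal := fun W hW hn => hG (by
    intro T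
    refine (transferCtrl_of_normal S (fam_functor W hW) hn T).trans (iSup₂_le ?_)
    rintro _ ⟨W', rfl, rfl⟩
    exact le_foc ⟨_, hW, rfl⟩)
  have hZ : ¬ ((S : Subgroup X) ⊓ centralizer (S : Set X)).Normal := induced_center (S : Subgroup X) ▸ hnormal _ (Or.inl rfl)
  have hW : ¬ (Cfsg.inducedFunctor (fun (Q : Type u) [Group Q] => second p Q) (tilX S)).Normal :=
    second_tilX S ▸ hnormal _ (Or.inr rfl)
  have hne : (S : Subgroup X) ≠ ⊥ := fun h => hG (transferCtrl_of_one fam_functor S (by rw [h, bot_inf_eq]; exact bot_le))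
  have hStop : (S : Subgroup X) ≠ ⊤ := fun h => hnormal _ (Or.inr rfl) (normalizer_eq_top_iff.mp (eq_top_iff.mpr
    ((h.ge.trans le_normalizer).trans (normalizer_le_normalizer_inducedFunctor second_isFunctor S.isPGroup'))))
  have L : Local S M := ⟨hcore, hover _ le_rfl hStop, hMne', hover,
    fixed_line_not_normal hMne' hover hZ hW hcore, thompson_not_normal hMne' hover hZ hW, hne⟩
  obtain ⟨Y, R, F, iF, fF, hY⟩ := L.exists_rankOne hodd
  by_cases hproper : Y ≠ ⊤ ∨ tilX S ≠ (S : Subgroup X)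
  · subst hM
    refine L.closure_false fam_functor hsub (fun W hW' => ?_) hY hproper
    rcases hW' with rfl | rfl
    exacts [center_tilX_not_normal hMne' hover hZ hW, hW]
  push Not at hproper
  obtain ⟨rfl, hB⟩ := hproper
  obtain ⟨n, hn⟩ := hY.hF
  obtain ⟨π, hπ⟩ := hY.quot
  haveI : Nontrivial ↥(S : Subgroup X) := (nontrivial_iff_ne_bot _).mpr hne
  obtain ⟨π', hπ'⟩ : ∃ π' : X →* Matrix.ProjectiveSpecialLinearGroup (Fin 2) F, Function.Surjective π' :=
    ⟨π.comp ((MonoidHom.id X).codRestrict ⊤ fun x => mem_top x), fun q => by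
      obtain ⟨y, rfl⟩ := hπ q
      exact ⟨(y : X), congrArg π (Subtype.ext rfl)⟩⟩
  have hquad : GN.NoQuad S := fun x hx hxQ hq => by
    refine not_mem_nilpSet_of_minimal fam_functor fam_nonempty hsub hquot hG S hx hxQ fun U V hUV hUT => ?_
    haveI := hUV.2.1
    haveI : V.Normal := hUV.2.2.1
    have h2 : Cfsg.iterCommutator U (zpowers x) 2 ≤ V := show ⁅⁅U, zpowers x⁆, zpowers x⁆ ≤ V from iter_two_le (hq U V hUV hUT)
    have hge : ∀ m, Cfsg.iterCommutator U (zpowers x) (2 + m) ≤ V := fun m => by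
      induction m with
      | zero => exact h2
      | succ m ih => exact (commutator_mono ih le_rfl).trans (commutator_le_left _ _)
    have h3 : 2 ≤ p - 1 := by have := hp.out.two_le; omega
    have := hge (p - 1 - 2)
    rwa [Nat.add_sub_cancel' h3] at this
  have ht : GN.tilde ↥(S : Subgroup X) = ⊤ := by
    refine map_injective (S : Subgroup X).subtype_injective ?_
    rw [← MonoidHom.range_eq_map, range_subtype]
    exact Eq.trans (GN.emb_tilde (S : Subgroup X) (MulEquiv.refl _)) hB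
  rcases (canon_good (p := p) (Q := ↥(S : Subgroup X)) S.isPGroup').normal X S (MulEquiv.refl _) ht hcore L.unique
    ⟨π'.ker, inferInstance, F, iF, fF, n, hn, ⟨QuotientGroup.quotientKerEquivOfSurjective π' hπ'⟩⟩ hquad with h | h
  · exact hnormal _ (Or.inl rfl) h
  · refine hnormal _ (Or.inr rfl) ?_
    show ((second p ↥(S : Subgroup X)).map (S : Subgroup X).subtype).Normal
    rw [second_induced_top ht]
    exact h

/-- The centre and the second functor control transfer. -/
theorem transferCtrl_fam (hodd : p ≠ 2) (G : Type u) [Group G] [Finite G] :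
    TransferCtrl p (fam.{u} p) G :=
  transferCtrl_induction fam_functor fam_nonempty
    (fun X _ _ _ hsub hquot S _ _ hG => transferCtrl_step hodd hsub hquot S hG) G (IsSectionOf.refl G)

end Cfsg.Agent.Fus.ThreeTransfer
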