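import Mathlib
import Cfsg.Agent.Lib.Fus.ThreeTransfer.Main

/-!
# Transfer as a product of two derived subgroups
-/

set_option autoImplicit false
set_option linter.style.haveILetI false
set_option linter.unusedSectionVars false

open scoped Classical commutatorElement Pointwise

namespace Cfsg.Agent.Fus.ThreeTransfer

open Subgroup Cfsg.Agent.Invol

universe u

variable {p : ℕ} [hp : Fact p.Prime] {G : Type u} [Group G] [Finite G]

/-- The part in the normaliser of the centre is covered by its centraliser and any overgroup of `N(P)`. -/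
theorem center_part_le (P : Sylow p G) {N' : Subgroup G} (hN' : normalizer ((P : Subgroup G) : Set G) ≤ N') :
    (P : Subgroup G) ⊓ ⁅normalizer (((P : Subgroup G) ⊓ centralizer (P : Set G) : Subgroup G) : Set G),
      normalizer (((P : Subgroup G) ⊓ centralizer (P : Set G) : Subgroup G) : Set G)⁆ ≤
    ((P : Subgroup G) ⊓ ⁅centralizer (((P : Subgroup G) ⊓ centralizer (P : Set G) : Subgroup G) : Set G),
      centralizer (((P : Subgroup G) ⊓ centralizer (P : Set G) : Subgroup G) : Set G)⁆) ⊔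
      ((P : Subgroup G) ⊓ ⁅N', N'⁆) := by
  obtain ⟨Z, hZ⟩ : ∃ Z, Z = (P : Subgroup G) ⊓ centralizer (P : Set G) := ⟨_, rfl⟩
  rw [← hZ]
  obtain ⟨C, hC⟩ : ∃ C, C = centralizer (Z : Set G) := ⟨_, rfl⟩
  rw [← hC]
  obtain ⟨N, hN⟩ : ∃ N, N = normalizer (Z : Set G) := ⟨_, rfl⟩
  rw [← hN]
  have hPC : (P : Subgroup G) ≤ C := fun s hs => hC ▸ mem_centralizer_iff.mpr fun z hz =>
    (mem_centralizer_iff.mp (hZ ▸ hz : z ∈ (P : Subgroup G) ⊓ centralizer (P : Set G)).2 s hs).symm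
  have hPN : (P : Subgroup G) ≤ N := hN ▸ (hC ▸ hPC).trans (centralizer_le_normalizer _)
  have hP' : Grp.IsSylowIn p (P : Subgroup G) C := ⟨hPC, P.isPGroup', fun hd =>
    P.not_dvd_index (hd.trans (Subgroup.relIndex_dvd_index_of_le hPC))⟩
  obtain ⟨A, hA⟩ : ∃ A, A = (P : Subgroup G) ⊓ ⁅C, C⁆ := ⟨_, rfl⟩
  obtain ⟨B, hB⟩ : ∃ B, B = (P : Subgroup G) ⊓ ⁅N', N'⁆ := ⟨_, rfl⟩
  rw [← hA, ← hB]
  intro g hg
  let Q : Sylow p ↥N := P.subtype hPN
  have hgQ : (⟨g, hPN hg.1⟩ : ↥N) ∈ Q.focalSubgroup := by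
    rw [← commutator_inf_eq_focalSubgroup]
    refine ⟨?_, hg.1⟩
    have h1 : (commutator ↥N).map N.subtype = ⁅N, N⁆ := map_subtype_commutator N
    obtain ⟨y, hy, hye⟩ := h1.ge hg.2
    exact (Subtype.ext hye : y = ⟨g, hPN hg.1⟩) ▸ hy
  suffices h : Q.focalSubgroup ≤ (A ⊔ B).comap N.subtype from h hgQ
  rw [focalSubgroup_def, closure_le]
  rintro _ ⟨hQmem, x, hx, u, rfl⟩
  show ((⁅x, u⁆ : ↥N) : G) ∈ A ⊔ B
  have hxP : (x : G) ∈ (P : Subgroup G) := hx
  have hmem : ⁅(x : G), (u : G)⁆ ∈ (P : Subgroup G) := hQmem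
  have hu : (u : G) ∈ normalizer (Z : Set G) := hN.le u.2
  have hgC : MulAut.conj (u : G) • C = C := by
    rw [← Grp.mem_normalizer_iff_smul, hC]
    refine mem_normalizer_fintype fun c hc => mem_centralizer_iff.mpr fun z hz => ?_
    have h1 : (u : G)⁻¹ * z * u ∈ Z := by simpa using (mem_normalizer_iff.mp (inv_mem hu) z).mp hz
    have h2 := mem_centralizer_iff.mp hc _ h1
    calc z * ((u : G) * c * (u : G)⁻¹) = u * ((u : G)⁻¹ * z * u * c) * (u : G)⁻¹ := by group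
      _ = u * (c * ((u : G)⁻¹ * z * u)) * (u : G)⁻¹ := by rw [h2]
      _ = _ := by group
  obtain ⟨c, hc, hce⟩ := hP'.conj (hP'.smul hgC)
  obtain ⟨n, hn⟩ : ∃ n, n = c⁻¹ * (u : G) := ⟨_, rfl⟩
  have hnP : n ∈ normalizer ((P : Subgroup G) : Set G) := by
    rw [hn, Grp.mem_normalizer_iff_smul, map_mul, mul_smul, ← hce, smul_smul, ← map_mul,
      inv_mul_cancel, map_one, one_smul]
  have hnZ : n ∈ normalizer (Z : Set G) := by
    rw [hn]
    exact mul_mem (inv_mem (centralizer_le_normalizer _ (hC ▸ hc))) hu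
  obtain ⟨c', hc'⟩ : ∃ c', c' = n⁻¹ * c * n := ⟨_, rfl⟩
  have hue : (u : G) = c * n := by rw [hn]; group
  have h1 : ⁅(x : G), (u : G)⁆ = ⁅(x : G), n⁆ * ⁅n * x * n⁻¹, c⁆ := by
    rw [show (u : G) = n * c' by rw [hue, hc']; group, GN.cmul_right, GN.conj_comm, hc']
    congr 2
    group
  have hxn : n * x * n⁻¹ ∈ (P : Subgroup G) := (mem_normalizer_iff.mp hnP x).mp hxP
  have h2 : ⁅(x : G), n⁆ ∈ (P : Subgroup G) := by
    rw [commutatorElement_def, show (x : G) * n * (x : G)⁻¹ * n⁻¹ = x * (n * (x : G)⁻¹ * n⁻¹) by group]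
    exact mul_mem hxP ((mem_normalizer_iff.mp hnP _).mp (inv_mem hxP))
  have h3 : ⁅n * x * n⁻¹, c⁆ ∈ (P : Subgroup G) := by
    have := mul_mem (inv_mem h2) (h1 ▸ hmem)
    rwa [inv_mul_cancel_left] at this
  show (N.subtype ⁅x, u⁆) ∈ A ⊔ B
  rw [map_commutatorElement]
  show ⁅(x : G), (u : G)⁆ ∈ A ⊔ B
  rw [h1]
  exact mul_mem (mem_sup_right (hB ▸ ⟨h2, commutator_mem_commutator (hN' (le_normalizer hxP)) (hN' hnP)⟩))
    (mem_sup_left (hA ▸ ⟨h3, commutator_mem_commutator (hPC hxn) hc⟩))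

/-- Transfer by the centre and the second functor, as a product. -/
theorem focal_product (hodd : p ≠ 2) (P : Sylow p G) (g : G) :
    g ∈ (P : Subgroup G) ⊓ commutator G ↔
    ∃ a ∈ (P : Subgroup G) ⊓ ⁅centralizer (((P : Subgroup G) ⊓ centralizer (P : Set G) : Subgroup G) : Set G),
      centralizer (((P : Subgroup G) ⊓ centralizer (P : Set G) : Subgroup G) : Set G)⁆,
    ∃ b ∈ (P : Subgroup G) ⊓
      ⁅normalizer (Cfsg.inducedFunctor (fun (Q : Type u) [Group Q] => second p Q) (P : Subgroup G) : Set G),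
        normalizer (Cfsg.inducedFunctor (fun (Q : Type u) [Group Q] => second p Q) (P : Subgroup G) : Set G)⁆,
    g = a * b := by
  obtain ⟨K, hK⟩ : ∃ K, K = Cfsg.inducedFunctor (fun (Q : Type u) [Group Q] => second p Q) (P : Subgroup G) := ⟨_, rfl⟩
  rw [← hK]
  have hNP : normalizer ((P : Subgroup G) : Set G) ≤ normalizer (K : Set G) :=
    hK ▸ normalizer_le_normalizer_inducedFunctor second_isFunctor P.isPGroup'
  obtain ⟨C, hC⟩ : ∃ C, C = centralizer (((P : Subgroup G) ⊓ centralizer (P : Set G) : Subgroup G) : Set G) := ⟨_, rfl⟩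
  rw [← hC]
  obtain ⟨A, hA⟩ : ∃ A, A = (P : Subgroup G) ⊓ ⁅C, C⁆ := ⟨_, rfl⟩
  obtain ⟨B, hB⟩ : ∃ B, B = (P : Subgroup G) ⊓ ⁅normalizer (K : Set G), normalizer (K : Set G)⁆ := ⟨_, rfl⟩
  rw [← hA, ← hB]
  constructor
  · intro hg
    have hPC : (P : Subgroup G) ≤ C := fun s hs => hC ▸ mem_centralizer_iff.mpr fun z hz =>
      (mem_centralizer_iff.mp hz.2 s hs).symm
    have hAn : (P : Subgroup G) ≤ normalizer (A : Set G) := by
      rw [hA]
      intro s hs
      refine mem_normalizer_fintype fun a ha => ⟨(P : Subgroup G).mul_mem ((P : Subgroup G).mul_mem hs ha.1) ((P : Subgroup G).inv_mem hs), ?_⟩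
      rw [show s * a * s⁻¹ = ⁅s, a⁆ * a by rw [commutatorElement_def]; group]
      exact mul_mem (commutator_mem_commutator (hPC hs) (commutator_le_self C ha.2)) ha.2
    have h1 : g ∈ A ⊔ B := by
      refine (iSup₂_le ?_ : Foc (ind (fam.{u} p) G) (P : Subgroup G) ≤ A ⊔ B) (transferCtrl_fam hodd G P ⟨hg.1, hg.2⟩)
      rintro _ ⟨W, rfl | rfl, rfl⟩
      · show (P : Subgroup G) ⊓ ⁅normalizer (Cfsg.inducedFunctor (fun (Q : Type u) [Group Q] => center Q) (P : Subgroup G) : Set G),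
          normalizer (Cfsg.inducedFunctor (fun (Q : Type u) [Group Q] => center Q) (P : Subgroup G) : Set G)⁆ ≤ _
        rw [induced_center, hA, hB, hC]
        exact center_part_le P hNP
      · rw [hB, hK]; exact le_sup_right
    rw [← SetLike.mem_coe, sup_comm, coe_mul_of_left_le_normalizer_right _ _ ((hB ▸ inf_le_left).trans hAn)] at h1
    obtain ⟨b, hb, a, ha, rfl⟩ := h1
    refine ⟨b * a * b⁻¹, ?_, b, hb, by group⟩
    exact (mem_normalizer_iff.mp (hAn ((hB ▸ inf_le_left : B ≤ _) hb)) a).mp ha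
  · rintro ⟨a, ha, b, hb, rfl⟩
    rw [hA] at ha; rw [hB] at hb
    exact ⟨mul_mem ha.1 hb.1, mul_mem (commutator_mono le_top le_top ha.2) (commutator_mono le_top le_top hb.2)⟩

end Cfsg.Agent.Fus.ThreeTransfer
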